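import Mathlib

/-!
Small linear algebra tools: extending independent families to bases indexed by `Fin n`, matrices with given columns.
-/

set_option autoImplicit false

namespace Cfsg.Agent.Lib.LinAux

variable {F : Type*} [Field F]

/-- An independent family extends to a basis. -/
theorem exists_basis_extending {V : Type*} [AddCommGroup V] [Module F V] [FiniteDimensional F V] {n k : ℕ}
    (hV : Module.finrank F V = n) (f : Fin k → V) (hf : LinearIndependent F f) :
    ∃ (hk : k ≤ n) (b : Module.Basis (Fin n) F V), ∀ i : Fin k, b (Fin.castLE hk i) = f i := by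
  classical
  let e := Module.Basis.sumExtend hf
  have : Finite (Module.Basis.sumExtendIndex hf) := by
    have := Module.Finite.finite_basis e
    exact Finite.sum_right (α := Fin k)
  let _ := Fintype.ofFinite (Module.Basis.sumExtendIndex hf)
  have hn : k + Fintype.card (Module.Basis.sumExtendIndex hf) = n := by
    rw [← hV, Module.finrank_eq_card_basis e, Fintype.card_sum, Fintype.card_fin]
  refine ⟨by omega, e.reindex ((Equiv.sumCongr (Equiv.refl _) (Fintype.equivFin _)).trans
    (finSumFinEquiv.trans (finCongr hn))), fun i => ?_⟩
  rw [Module.Basis.reindex_apply]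
  have h : (((Equiv.sumCongr (Equiv.refl _) (Fintype.equivFin _)).trans
      (finSumFinEquiv.trans (finCongr hn))).symm (Fin.castLE (by omega) i) :
        Fin k ⊕ Module.Basis.sumExtendIndex hf) = Sum.inl i := by
    rw [Equiv.symm_apply_eq]
    ext
    simp
  rw [h]
  simp [e, Module.Basis.sumExtend]
  rfl

/-- The matrix with given columns. -/
def colMatrix {ι : Type*} (b : ι → ι → F) : Matrix ι ι F := Matrix.of fun i j => b j i

theorem colMatrix_mulVec_single {ι : Type*} [Fintype ι] [DecidableEq ι] (b : ι → ι → F) (j : ι) :
    (colMatrix b).mulVec (Pi.single j 1) = b j := by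
  funext i
  simp [colMatrix]

theorem det_colMatrix_ne_zero {ι : Type*} [Fintype ι] [DecidableEq ι] {b : ι → ι → F} (hb : LinearIndependent F b) :
    (colMatrix b).det ≠ 0 := by
  rw [← isUnit_iff_ne_zero, ← Matrix.isUnit_iff_isUnit_det, ← Matrix.linearIndependent_cols_iff_isUnit]
  exact hb

/-- Scaling one column turns any basis into a unimodular one. -/
theorem det_colMatrix_update {ι : Type*} [Fintype ι] [DecidableEq ι] {b : ι → ι → F} (hb : LinearIndependent F b)
    (j : ι) (c : F) : (colMatrix (Function.update b j ((c / (colMatrix b).det) • b j))).det = c := by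
  have h : colMatrix (Function.update b j ((c / (colMatrix b).det) • b j)) =
      (colMatrix b).updateCol j ((c / (colMatrix b).det) • (colMatrix b).col j) := by
    ext r s
    rcases eq_or_ne s j with rfl | h
    · simp [colMatrix]
    · simp [colMatrix, h]
  rw [h, Matrix.det_updateCol_smul, show (colMatrix b).updateCol j ((colMatrix b).col j) = colMatrix b from Matrix.updateCol_eq_self ..]
  exact div_mul_cancel₀ _ (det_colMatrix_ne_zero hb)

theorem mul_colMatrix_ext {ι : Type*} [Fintype ι] [DecidableEq ι] {A B : Matrix ι ι F}
    (h : ∀ j, A.mulVec (Pi.single j 1) = B.mulVec (Pi.single j 1)) : A = B :=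
  Matrix.ext_of_mulVec_single h

end Cfsg.Agent.Lib.LinAux
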