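import Mathlib
import Cfsg.Agent.Lib.LinAux.Basic

/-!
A single nilpotent Jordan block: the shift matrix, its commutant (lower Toeplitz matrices) and normal form.
-/

set_option autoImplicit false

namespace Cfsg.Agent.Lib.LinAux

variable {F : Type*} [Field F] {n : ℕ}

/-- The matrix sending `e_j` to `e_(j+1)` and the last basis vector to `0`. -/
def shift (F : Type*) [Field F] (n : ℕ) : Matrix (Fin n) (Fin n) F :=
  Matrix.of fun i j => if (i : ℕ) = j + 1 then 1 else 0

/-- The lower triangular Toeplitz matrix with first column `c`. -/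
def toep (c : Fin n → F) : Matrix (Fin n) (Fin n) F :=
  Matrix.of fun i j => if j ≤ i then c ⟨(i : ℕ) - j, lt_of_le_of_lt (Nat.sub_le _ _) i.2⟩ else 0

theorem toep_apply (c : Fin n → F) (i j : Fin n) :
    toep c i j = if j ≤ i then c ⟨(i : ℕ) - j, lt_of_le_of_lt (Nat.sub_le _ _) i.2⟩ else 0 := rfl

theorem toep_apply_zero [NeZero n] (c : Fin n → F) (i : Fin n) : toep c i 0 = c i := by
  rw [toep_apply, if_pos (Fin.zero_le i)]
  congr 1

theorem mul_shift_apply_of_lt (A : Matrix (Fin n) (Fin n) F) (i j : Fin n) (h : (j : ℕ) + 1 < n) :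
    (A * shift F n) i j = A i ⟨j + 1, h⟩ := by
  rw [Matrix.mul_apply, Finset.sum_eq_single ⟨(j : ℕ) + 1, h⟩]
  · simp [shift]
  · intro b _ hb
    have : (b : ℕ) ≠ j + 1 := fun e => hb (Fin.ext e)
    simp [shift, this]
  · simp

theorem mul_shift_apply_of_le (A : Matrix (Fin n) (Fin n) F) (i j : Fin n) (h : ¬ (j : ℕ) + 1 < n) :
    (A * shift F n) i j = 0 := by
  rw [Matrix.mul_apply]
  refine Finset.sum_eq_zero fun b _ => ?_
  have : (b : ℕ) ≠ j + 1 := fun e => h (e ▸ b.2)
  simp [shift, this]

theorem shift_mul_apply (A : Matrix (Fin n) (Fin n) F) (i j : Fin n) :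
    (shift F n * A) i j = if (i : ℕ) = 0 then 0 else A ⟨(i : ℕ) - 1, lt_of_le_of_lt (Nat.sub_le _ _) i.2⟩ j := by
  rw [Matrix.mul_apply]
  split_ifs with h
  · refine Finset.sum_eq_zero fun b _ => ?_
    have : (i : ℕ) ≠ b + 1 := by omega
    simp [shift, this]
  · rw [Finset.sum_eq_single ⟨(i : ℕ) - 1, lt_of_le_of_lt (Nat.sub_le _ _) i.2⟩]
    · simp only [shift, Matrix.of_apply]
      rw [if_pos (by omega), one_mul]
    · intro b _ hb
      have : (i : ℕ) ≠ b + 1 := fun e => hb (Fin.ext (by show (b : ℕ) = i - 1; omega))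
      simp [shift, this]
    · simp

theorem shift_comm_toep (c : Fin n → F) : shift F n * toep c = toep c * shift F n := by
  ext i j
  rw [shift_mul_apply]
  by_cases hj : (j : ℕ) + 1 < n <;> first | rw [mul_shift_apply_of_lt _ _ _ hj] | rw [mul_shift_apply_of_le _ _ _ hj]
  all_goals simp only [toep_apply, Fin.le_def]
  all_goals split_ifs <;> first | rfl | omega | (congr 1; ext; simp only; omega)

/-- The commutant of the shift. -/
theorem eq_toep_of_comm [NeZero n] {A : Matrix (Fin n) (Fin n) F} (h : shift F n * A = A * shift F n) :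
    A = toep (fun i => A i 0) := by
  have key : ∀ (j : ℕ) (hj : j < n) (i : Fin n), A i ⟨j, hj⟩ = toep (fun i => A i 0) i ⟨j, hj⟩ := by
    intro j
    induction j with
    | zero =>
      intro hj i
      exact (toep_apply_zero (fun i => A i 0) i).symm
    | succ j ih =>
      intro hj i
      have e : (shift F n * A) i ⟨j, by omega⟩ = (A * shift F n) i ⟨j, by omega⟩ := by rw [h]
      rw [mul_shift_apply_of_lt A i ⟨j, by omega⟩ hj, shift_mul_apply] at e
      rw [← e]
      simp only [toep_apply, Fin.le_def]
      split_ifs with h1 h2 h3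
      · omega
      · rfl
      · rw [ih]
        simp only [toep_apply, Fin.le_def]
        rw [if_pos (by omega)]
        congr 2
        try simp only [Fin.mk.injEq]
        omega
      · rw [ih]
        simp only [toep_apply, Fin.le_def]
        rw [if_neg (by omega)]
  ext i j
  exact key j j.2 i

theorem det_toep [NeZero n] (c : Fin n → F) : (toep c).det = c 0 ^ n := by
  rw [Matrix.det_of_lowerTriangular _ fun i j hij => ?_]
  · simp [toep_apply]
  · have : ¬ j ≤ i := not_le.mpr hij
    simp [toep_apply, this]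

theorem toep_injective [NeZero n] : Function.Injective (toep (F := F) (n := n)) := by
  intro c d h
  funext i
  rw [← toep_apply_zero c i, h, toep_apply_zero]

theorem finrank_ker_comp_le {V : Type*} [AddCommGroup V] [Module F V] [FiniteDimensional F V] (f g : V →ₗ[F] V) :
    Module.finrank F (LinearMap.ker (g.comp f)) ≤
      Module.finrank F (LinearMap.ker g) + Module.finrank F (LinearMap.ker f) := by
  have h := LinearMap.finrank_range_add_finrank_ker (f.comp (LinearMap.ker (g.comp f)).subtype)
  have h1 : LinearMap.range (f.comp (LinearMap.ker (g.comp f)).subtype) ≤ LinearMap.ker g := by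
    rintro _ ⟨x, rfl⟩
    exact x.2
  have h2 := Submodule.finrank_mono h1
  have h3 : (LinearMap.ker (f.comp (LinearMap.ker (g.comp f)).subtype)).map (LinearMap.ker (g.comp f)).subtype ≤
      LinearMap.ker f := by
    rintro _ ⟨x, hx, rfl⟩
    exact hx
  have h4 := Submodule.finrank_mono h3
  rw [Submodule.finrank_map_subtype_eq] at h4
  omega

/-- A nilpotent matrix of rank `n - 1` is similar to the shift. -/
theorem exists_shift_frame (N : Matrix (Fin n) (Fin n) F) (hnil : N ^ n = 0) (hrank : N.rank = n - 1) :
    ∃ C : Matrix (Fin n) (Fin n) F, C.det ≠ 0 ∧ N * C = C * shift F n := by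
  rcases Nat.eq_zero_or_pos n with rfl | hn
  · exact ⟨1, by simp, Subsingleton.elim _ _⟩
  have hker : Module.finrank F (LinearMap.ker N.mulVecLin) = 1 := by
    have := LinearMap.finrank_range_add_finrank_ker N.mulVecLin
    rw [Module.finrank_fin_fun] at this
    have hr : Module.finrank F (LinearMap.range N.mulVecLin) = n - 1 := hrank
    omega
  have hle : ∀ k : ℕ, Module.finrank F (LinearMap.ker (N ^ k).mulVecLin) ≤ k := by
    intro k
    induction k with
    | zero => simp
    | succ k ih =>
      rw [pow_succ, Matrix.mulVecLin_mul]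
      refine (finrank_ker_comp_le _ _).trans ?_
      omega
  obtain ⟨v, hv⟩ : ∃ v, (N ^ (n - 1)).mulVec v ≠ 0 := by
    by_contra! h
    have h0 : LinearMap.ker (N ^ (n - 1)).mulVecLin = ⊤ := LinearMap.ker_eq_top.mpr (LinearMap.ext h)
    have := hle (n - 1)
    rw [h0, finrank_top, Module.finrank_fin_fun] at this
    omega
  let b : Fin n → (Fin n → F) := fun j => (N ^ (j : ℕ)).mulVec v
  have hzero : ∀ k, n ≤ k → (N ^ k).mulVec v = 0 := fun k hk => by
    rw [show k = n + (k - n) by omega, pow_add, hnil, zero_mul, Matrix.zero_mulVec]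
  have hb : LinearIndependent F b := by
    rw [Fintype.linearIndependent_iff]
    intro c hc i
    obtain ⟨i, hi⟩ := i
    induction i using Nat.strong_induction_on with
    | _ i ih =>
      have h := congrArg (N ^ (n - 1 - i)).mulVec hc
      rw [Matrix.mulVec_sum, Matrix.mulVec_zero, Finset.sum_eq_single ⟨i, hi⟩] at h
      · simp only [b, Matrix.mulVec_smul, Matrix.mulVec_mulVec, ← pow_add,
          show n - 1 - i + i = n - 1 by omega, smul_eq_zero] at h
        exact h.resolve_right hv
      · intro j _ hj
        rcases lt_trichotomy (j : ℕ) i with hlt | heq | hgt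
        · simp [ih j hlt j.2]
        · exact absurd (Fin.ext heq) hj
        · simp only [b, Matrix.mulVec_smul, Matrix.mulVec_mulVec, ← pow_add]
          rw [hzero _ (by omega), smul_zero]
      · simp
  refine ⟨colMatrix b, det_colMatrix_ne_zero hb, ?_⟩
  ext i j
  show N.mulVec (b j) i = _
  by_cases h : (j : ℕ) + 1 < n
  · rw [mul_shift_apply_of_lt _ _ _ h]
    simp [b, colMatrix, Matrix.mulVec_mulVec, ← pow_succ']
  · rw [mul_shift_apply_of_le _ _ _ h]
    simp only [b, Matrix.mulVec_mulVec, ← pow_succ']
    rw [hzero _ (by omega)]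
    rfl

end Cfsg.Agent.Lib.LinAux
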